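import Groth.Agent.EtAlg.Milnor.Glue
import Mathlib.RingTheory.Spectrum.Prime.Topology
import Mathlib.RingTheory.LocalRing.ResidueField.Fiber
import Mathlib.RingTheory.Smooth.Fiber

/-! Milnor squares: properties of algebras. -/

namespace Groth.Agent.EtAlg.Milnor.Alg

open TensorProduct EtMil Basic

universe u

variable {B' B A' A : Type u} [CommRing B'] [CommRing B] [CommRing A'] [CommRing A]
  [Algebra B' B] [Algebra B' A'] [Algebra B A] [Algebra A' A] [Algebra B' A]
  [IsScalarTower B' B A] [IsScalarTower B' A' A] {L : Type u} [CommRing L] [Algebra B' L]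

attribute [local instance] Algebra.TensorProduct.rightAlgebra

theorem finiteType_of_pair (hsq : IsFibreSquare B' B A' A) [Algebra.FiniteType B (B ⊗[B'] L)]
    [Algebra.FiniteType A' (A' ⊗[B'] L)] : Algebra.FiniteType B' L := by
  classical
  obtain ⟨s, hs⟩ := EtAlg.Glue.Alg.exists_fg_subalgebra (A := B') (B := L) B
  obtain ⟨t, ht⟩ := EtAlg.Glue.Alg.exists_fg_subalgebra (A := B') (B := L) A'
  let C := Algebra.adjoin B' ((s ∪ t : Finset L) : Set L)
  have hsub : ((s ∪ t : Finset L) : Set L) ⊆ C := Algebra.subset_adjoin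
  have hsurj := surjective_of_pair hsq C.toSubmodule.subtype (hs C fun z hz => hsub (by simp [Finset.mem_coe.mp hz]))
    (ht C fun z hz => hsub (by simp [Finset.mem_coe.mp hz]))
  refine ⟨⟨s ∪ t, eq_top_iff.mpr fun m _ => ?_⟩⟩
  obtain ⟨⟨y, hy⟩, rfl⟩ := hsurj m
  exact hy

theorem finitePresentation_of_pair' (hsq : IsFibreSquare B' B A' A) [Module.Flat B' L]
    [Algebra.FinitePresentation B (B ⊗[B'] L)] [Algebra.FinitePresentation A' (A' ⊗[B'] L)] :
    Algebra.FinitePresentation B' L := by
  classical
  have := finiteType_of_pair (L := L) hsq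
  obtain ⟨k, π, hπ⟩ := Algebra.FiniteType.iff_quotient_mvPolynomial''.mp (inferInstance : Algebra.FiniteType B' L)
  let P := MvPolynomial (Fin k) B'
  let J : Ideal P := RingHom.ker π.toRingHom
  obtain ⟨s, hs, hs'⟩ := EtAlg.Glue.Alg.exists_ker_finset π hπ J rfl B
  obtain ⟨t, ht, ht'⟩ := EtAlg.Glue.Alg.exists_ker_finset π hπ J rfl A'
  let J₀ : Ideal P := Ideal.span ((s ∪ t : Finset P) : Set P)
  have hle : J₀ ≤ J := Ideal.span_le.mpr fun p hp =>
    (Finset.mem_union.mp (Finset.mem_coe.mp hp)).elim (hs p) (ht p)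
  have hsurj := surjective_of_pair hsq _
    (hs' J₀ (fun p hp => Ideal.subset_span (by simp [Finset.mem_coe.mp hp])) hle)
    (ht' J₀ (fun p hp => Ideal.subset_span (by simp [Finset.mem_coe.mp hp])) hle)
  have hJ : J = J₀ := le_antisymm (fun p hp => by
    obtain ⟨⟨q, hq⟩, hqp⟩ := hsurj ⟨p, hp⟩
    have e : q = p := congrArg Subtype.val hqp
    exact e ▸ hq) hle
  exact Algebra.FinitePresentation.of_surjective hπ (show J.FG from hJ ▸ ⟨s ∪ t, rfl⟩)

theorem unramified_of_pair (hsq : IsFibreSquare B' B A' A) [Algebra.FormallyUnramified B (B ⊗[B'] L)]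
    [Algebra.FormallyUnramified A' (A' ⊗[B'] L)] : Algebra.FormallyUnramified B' L := by
  refine ⟨subsingleton_of_forall_eq 0 fun m => eq_zero_of_pair hsq (fun x => ?_) (fun x => ?_) m⟩
  · have : Subsingleton (B ⊗[B'] KaehlerDifferential B' L) :=
      (KaehlerDifferential.tensorKaehlerEquivBase B' B L (B ⊗[B'] L)).toEquiv.subsingleton
    exact Subsingleton.elim _ _
  · have : Subsingleton (A' ⊗[B'] KaehlerDifferential B' L) :=
      (KaehlerDifferential.tensorKaehlerEquivBase B' A' L (A' ⊗[B'] L)).toEquiv.subsingleton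
    exact Subsingleton.elim _ _

/-- Fibres only depend on the residue field. -/
theorem formallySmooth_fiber {R S L : Type u} [CommRing R] [CommRing S] [Algebra R S] [CommRing L] [Algebra R L]
    (q : Ideal S) [q.IsPrime] (p : Ideal R) [p.IsPrime] [q.LiesOver p]
    (hq : ∀ a : S, ∃ x y : R, algebraMap R S y ∉ q ∧ a * algebraMap R S y - algebraMap R S x ∈ q)
    [Algebra.Smooth S (S ⊗[R] L)] : Algebra.FormallySmooth p.ResidueField (p.Fiber L) := by
  let _ : Algebra p.ResidueField q.ResidueField :=
    (Ideal.ResidueField.map p q (algebraMap R S) (Ideal.over_def q p)).toAlgebra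
  have : IsScalarTower R p.ResidueField q.ResidueField := IsScalarTower.of_algebraMap_eq fun r =>
    (IsScalarTower.algebraMap_apply R S q.ResidueField r).trans
      (Ideal.ResidueField.map_algebraMap p q (algebraMap R S) (Ideal.over_def q p) r).symm
  have hbij : Function.Bijective (algebraMap p.ResidueField q.ResidueField) := by
    refine ⟨RingHom.injective _, fun z => ?_⟩
    obtain ⟨⟨a, b⟩, h⟩ := IsLocalization.surj (nonZeroDivisors (S ⧸ q)) z
    obtain ⟨a, rfl⟩ := Ideal.Quotient.mk_surjective a
    obtain ⟨b, hb⟩ := b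
    obtain ⟨b, rfl⟩ := Ideal.Quotient.mk_surjective b
    have himage : ∀ a : S, algebraMap S q.ResidueField a ∈ (algebraMap p.ResidueField q.ResidueField).fieldRange := by
      intro a
      obtain ⟨x, y, hy, hxy⟩ := hq a
      have h0 := Ideal.algebraMap_residueField_eq_zero.mpr hxy
      rw [map_sub, sub_eq_zero, map_mul] at h0
      have hy' : algebraMap S q.ResidueField (algebraMap R S y) ≠ 0 := fun h => hy (Ideal.algebraMap_residueField_eq_zero.mp h)
      have e : ∀ r : R, algebraMap p.ResidueField q.ResidueField (algebraMap R p.ResidueField r) =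
          algebraMap S q.ResidueField (algebraMap R S r) := fun r => by
        rw [← IsScalarTower.algebraMap_apply, ← IsScalarTower.algebraMap_apply]
      refine ⟨algebraMap R p.ResidueField x / algebraMap R p.ResidueField y, ?_⟩
      rw [map_div₀, e, e, ← h0, mul_div_assoc, div_self hy', mul_one]
    have hb0 : algebraMap S q.ResidueField b ≠ 0 := fun hzero =>
      nonZeroDivisors.ne_zero hb (Ideal.Quotient.eq_zero_iff_mem.mpr (Ideal.algebraMap_residueField_eq_zero.mp hzero))
    have hz : z = algebraMap S q.ResidueField a / algebraMap S q.ResidueField b := by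
      rw [eq_div_iff hb0]; exact h
    rw [hz]
    exact RingHom.mem_fieldRange.mp (div_mem (himage a) (himage b))
  let e₀ : p.ResidueField ≃ₐ[p.ResidueField] q.ResidueField :=
    AlgEquiv.ofBijective (Algebra.ofId p.ResidueField q.ResidueField) hbij
  have : Algebra.FormallySmooth p.ResidueField q.ResidueField := Algebra.FormallySmooth.of_equiv e₀
  have : Algebra.FormallySmooth q.ResidueField (q.ResidueField ⊗[R] L) :=
    Algebra.FormallySmooth.of_equiv (Algebra.TensorProduct.cancelBaseChange R S q.ResidueField q.ResidueField L)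
  have : Algebra.FormallySmooth p.ResidueField (q.ResidueField ⊗[R] L) :=
    Algebra.FormallySmooth.comp p.ResidueField q.ResidueField _
  exact Algebra.FormallySmooth.of_equiv (Algebra.TensorProduct.congr e₀ (AlgEquiv.refl : L ≃ₐ[R] L)).symm

theorem smooth_of_pair (hsq : IsFibreSquare B' B A' A) [Algebra.Smooth B (B ⊗[B'] L)]
    [Algebra.Smooth A' (A' ⊗[B'] L)] : Algebra.Smooth B' L := by
  have hflat : Module.Flat B' L := flat_of_pair hsq
  have := finitePresentation_of_pair' (L := L) hsq
  refine Algebra.Smooth.of_formallySmooth_fiber fun p hp => ?_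
  by_cases hJ : RingHom.ker (algebraMap B' B) ≤ p
  · let q := p.map (algebraMap B' B)
    have : q.IsPrime := Ideal.map_isPrime_of_surjective (surjective hsq) hJ
    have : q.LiesOver p := ⟨(by
      rw [Ideal.under_def, Ideal.comap_map_of_surjective _ (surjective hsq), sup_eq_left]
      exact hJ : q.under B' = p).symm⟩
    refine formallySmooth_fiber q p fun a => ?_
    obtain ⟨x, rfl⟩ := surjective hsq a
    exact ⟨x, 1, fun h => hp.ne_top ((Ideal.eq_top_iff_one _).mpr ((Ideal.mem_of_liesOver q p 1).mpr h)),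
      by rw [map_one, mul_one, sub_self]; exact zero_mem _⟩
  · obtain ⟨j, hj, hjp⟩ := SetLike.not_le_iff_exists.mp hJ
    choose k hk hk' using fun a' : A' => exists_mul hsq (RingHom.mem_ker.mp hj) a'
    have hadd : ∀ a b, k (a + b) = k a + k b := fun a b => ext' hsq
      (by rw [map_add, hk, hk, hk, add_zero]) (by rw [map_add, hk', hk', hk', add_mul])
    have hmul : ∀ a b, k (a * b) * j = k a * k b := fun a b => ext' hsq
      (by rw [map_mul, map_mul, hk, hk, zero_mul, zero_mul]) (by rw [map_mul, map_mul, hk', hk', hk']; ring)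
    have hα : ∀ x, k (algebraMap B' A' x) = x * j := fun x => ext' hsq
      (by rw [map_mul, hk, RingHom.mem_ker.mp hj, mul_zero]) (by rw [map_mul, hk'])
    let q : Ideal A' :=
      { carrier := {a' | k a' ∈ p}
        zero_mem' := by
          show k 0 ∈ p
          rw [← map_zero (algebraMap B' A'), hα, zero_mul]; exact zero_mem _
        add_mem' := fun {a b} ha hb => by show k (a + b) ∈ p; rw [hadd]; exact add_mem ha hb
        smul_mem' := fun c a ha => by
          show k (c * a) ∈ p
          refine (hp.mem_or_mem ?_).resolve_right hjp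
          rw [hmul]; exact Ideal.mul_mem_left _ _ ha }
    have hcomap : ∀ x, algebraMap B' A' x ∈ q ↔ x ∈ p := fun x => by
      show k (algebraMap B' A' x) ∈ p ↔ x ∈ p
      rw [hα]
      exact ⟨fun h => (hp.mem_or_mem h).resolve_right hjp, fun h => Ideal.mul_mem_right _ _ h⟩
    have : q.IsPrime := by
      refine ⟨fun h => hp.ne_top ?_, fun {a b} hab => hp.mem_or_mem ?_⟩
      · exact (Ideal.eq_top_iff_one _).mpr ((hcomap 1).mp (by rw [map_one]; exact (Ideal.eq_top_iff_one q).mp h))
      · rw [← hmul]; exact Ideal.mul_mem_right _ _ hab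
    have : q.LiesOver p := ⟨Ideal.ext fun x => (hcomap x).symm⟩
    refine formallySmooth_fiber q p fun a => ⟨k a, j, fun h => hjp ((hcomap j).mp h), ?_⟩
    rw [hk', sub_self]; exact zero_mem _

end Groth.Agent.EtAlg.Milnor.Alg
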