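import Groth.Prelude.Def_EtMil
import Groth.Agent.EtAlg.Glue.Alg
import Mathlib.RingTheory.TensorProduct.Maps
import Mathlib.LinearAlgebra.TensorProduct.Quotient
import Mathlib.RingTheory.Ideal.Quotient.Operations

/-! Milnor squares: elementary lemmas, detection and flatness. -/

namespace Groth.Agent.EtAlg.Milnor.Basic

open TensorProduct EtMil

universe u

section Surj

variable {R S M : Type u} [CommRing R] [CommRing S] [Algebra R S] [AddCommGroup M] [Module R M]

theorem one_tmul_surjective (hs : Function.Surjective (algebraMap R S)) (x : S ⊗[R] M) : ∃ m : M, (1 : S) ⊗ₜ[R] m = x := by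
  induction x using TensorProduct.induction_on with
  | zero => exact ⟨0, tmul_zero _ _⟩
  | add x y hx hy =>
    obtain ⟨⟨a, rfl⟩, b, rfl⟩ := hx, hy
    exact ⟨a + b, tmul_add _ _ _⟩
  | tmul s m =>
    obtain ⟨r, rfl⟩ := hs s
    exact ⟨r • m, by rw [tmul_smul, smul_tmul', Algebra.smul_def, mul_one]⟩

theorem one_tmul_eq_zero_iff (hs : Function.Surjective (algebraMap R S)) {m : M} :
    (1 : S) ⊗ₜ[R] m = 0 ↔ m ∈ RingHom.ker (algebraMap R S) • (⊤ : Submodule R M) := by
  constructor
  · intro h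
    let e : (R ⧸ RingHom.ker (Algebra.ofId R S).toRingHom) ≃ₐ[R] S :=
      Ideal.quotientKerAlgEquivOfSurjective (f := Algebra.ofId R S) hs
    have h' : (1 : R ⧸ RingHom.ker (algebraMap R S)) ⊗ₜ[R] m = 0 := by
      have h2 := congrArg (e.symm.toLinearMap.rTensor M) h
      rw [LinearMap.rTensor_tmul, map_zero] at h2
      rwa [show e.symm.toLinearMap (1 : S) = 1 from map_one e.symm] at h2
    have h3 := congrArg (TensorProduct.quotTensorEquivQuotSMul M (RingHom.ker (algebraMap R S))) h'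
    rw [map_zero, ← map_one (Ideal.Quotient.mk (RingHom.ker (algebraMap R S))),
      TensorProduct.quotTensorEquivQuotSMul_mk_tmul, one_smul] at h3
    exact (Submodule.Quotient.mk_eq_zero _).mp h3
  · intro h
    refine Submodule.smul_induction_on h (fun r hr y _ => ?_) (fun a b ha hb => by rw [tmul_add, ha, hb, add_zero])
    rw [tmul_smul, smul_tmul', Algebra.smul_def, mul_one, RingHom.mem_ker.mp hr, zero_tmul]

end Surj

variable {B' B A' A : Type u} [CommRing B'] [CommRing B] [CommRing A'] [CommRing A]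
  [Algebra B' B] [Algebra B' A'] [Algebra B A] [Algebra A' A] [Algebra B' A]
  [IsScalarTower B' B A] [IsScalarTower B' A' A]

omit [Algebra B' A] [IsScalarTower B' B A] [IsScalarTower B' A' A] in
theorem exists_pair (hsq : IsFibreSquare B' B A' A) {b : B} {a' : A'} (h : algebraMap B A b = algebraMap A' A a') :
    ∃ x : B', algebraMap B' B x = b ∧ algebraMap B' A' x = a' :=
  (hsq.2 b a' h).exists

theorem ext' (hsq : IsFibreSquare B' B A' A) {x y : B'} (h1 : algebraMap B' B x = algebraMap B' B y)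
    (h2 : algebraMap B' A' x = algebraMap B' A' y) : x = y :=
  (hsq.2 (algebraMap B' B x) (algebraMap B' A' x)
    (by rw [← IsScalarTower.algebraMap_apply, ← IsScalarTower.algebraMap_apply])).unique ⟨rfl, rfl⟩ ⟨h1.symm, h2.symm⟩

omit [Algebra B' A] [IsScalarTower B' B A] [IsScalarTower B' A' A] in
theorem surjective (hsq : IsFibreSquare B' B A' A) : Function.Surjective (algebraMap B' B) := fun b => by
  obtain ⟨a', ha'⟩ := hsq.1 (algebraMap B A b)
  obtain ⟨x, hx, -⟩ := exists_pair hsq ha'.symm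
  exact ⟨x, hx⟩

omit [Algebra B' A] [IsScalarTower B' B A] [IsScalarTower B' A' A] in
theorem exists_ker (hsq : IsFibreSquare B' B A' A) {i : A'} (hi : algebraMap A' A i = 0) :
    ∃ j : B', algebraMap B' B j = 0 ∧ algebraMap B' A' j = i :=
  exists_pair hsq (by rw [map_zero, hi])

omit [Algebra B A] [IsScalarTower B' B A] in
theorem map_ker_eq_zero [Algebra B A] [IsScalarTower B' B A] {j : B'} (hj : algebraMap B' B j = 0) :
    algebraMap A' A (algebraMap B' A' j) = 0 := by
  rw [← IsScalarTower.algebraMap_apply, IsScalarTower.algebraMap_apply B' B A, hj, map_zero]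

theorem exists_mul (hsq : IsFibreSquare B' B A' A) {j : B'} (hj : algebraMap B' B j = 0) (a' : A') :
    ∃ k : B', algebraMap B' B k = 0 ∧ algebraMap B' A' k = a' * algebraMap B' A' j :=
  exists_ker hsq (by rw [map_mul, map_ker_eq_zero (B := B) hj, mul_zero])

theorem isPushout (hsq : IsFibreSquare B' B A' A) : Algebra.IsPushout B' B A' A := by
  let ψ : B ⊗[B'] A' →ₐ[B] A :=
    Algebra.TensorProduct.lift (Algebra.ofId B A) (IsScalarTower.toAlgHom B' A' A) fun _ _ => Commute.all _ _
  have hrep : ∀ z : B ⊗[B'] A', ∃ a' : A', z = 1 ⊗ₜ a' := fun z => by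
    obtain ⟨a', h⟩ := one_tmul_surjective (surjective hsq) z
    exact ⟨a', h.symm⟩
  have hψ : ∀ a' : A', ψ (1 ⊗ₜ a') = algebraMap A' A a' := fun a' => by
    rw [Algebra.TensorProduct.lift_tmul, map_one, one_mul]; rfl
  have hbij : Function.Bijective ψ := by
    refine ⟨(injective_iff_map_eq_zero ψ).mpr fun z hz => ?_, fun a => ?_⟩
    · obtain ⟨a', rfl⟩ := hrep z
      obtain ⟨j, hj, rfl⟩ := exists_ker hsq ((hψ a').symm.trans hz)
      rw [Algebra.algebraMap_eq_smul_one, tmul_smul, smul_tmul', Algebra.smul_def, mul_one, hj, zero_tmul]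
    · obtain ⟨a', rfl⟩ := hsq.1 a
      exact ⟨1 ⊗ₜ a', hψ a'⟩
  exact ⟨IsBaseChange.of_equiv (AlgEquiv.ofBijective ψ hbij).toLinearEquiv hψ⟩

variable {L : Type u} [AddCommGroup L] [Module B' L]

theorem exists_smul_map (hsq : IsFibreSquare B' B A' A) {j : B'} (hj : algebraMap B' B j = 0) :
    ∃ κ : A' ⊗[B'] L →ₗ[B'] L, ∀ m : L, κ (1 ⊗ₜ m) = j • m := by
  choose c hc1 hc2 using fun a' : A' => exists_mul hsq hj a'
  let cₗ : A' →ₗ[B'] B' :=
    { toFun := c
      map_add' := fun a b => ext' hsq (by rw [map_add, hc1, hc1, hc1, add_zero])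
        (by rw [map_add, hc2, hc2, hc2, add_mul])
      map_smul' := fun r a => ext' hsq (by rw [RingHom.id_apply, smul_eq_mul, map_mul, hc1, hc1, mul_zero])
        (by rw [RingHom.id_apply, smul_eq_mul, map_mul, hc2, hc2, Algebra.smul_def, mul_assoc]) }
  refine ⟨TensorProduct.lift ((LinearMap.lsmul B' L).comp cₗ), fun m => ?_⟩
  show c 1 • m = j • m
  rw [ext' hsq (x := c 1) (y := j) (by rw [hc1, hj]) (by rw [hc2, one_mul])]

theorem smul_eq_zero_of_tmul (hsq : IsFibreSquare B' B A' A) {l : L} (h : (1 : A') ⊗ₜ[B'] l = 0) {j : B'}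
    (hj : algebraMap B' B j = 0) : j • l = 0 := by
  obtain ⟨κ, hκ⟩ := exists_smul_map (L := L) hsq hj
  rw [← hκ, h, map_zero]

theorem eq_zero_of_pair (hsq : IsFibreSquare B' B A' A) (hB : ∀ x : B ⊗[B'] L, x = 0) (hA : ∀ x : A' ⊗[B'] L, x = 0)
    (l : L) : l = 0 := by
  refine Submodule.smul_induction_on ((one_tmul_eq_zero_iff (surjective hsq)).mp (hB (1 ⊗ₜ l)))
    (fun j hj m _ => smul_eq_zero_of_tmul hsq (hA _) (RingHom.mem_ker.mp hj)) (fun a b ha hb => by rw [ha, hb, add_zero])

theorem surjective_of_pair (hsq : IsFibreSquare B' B A' A) {N : Type u} [AddCommGroup N] [Module B' N] (g : N →ₗ[B'] L)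
    (h1 : Function.Surjective (g.lTensor B)) (h2 : Function.Surjective (g.lTensor A')) : Function.Surjective g := by
  have key : ∀ (S : Type u) [CommRing S] [Algebra B' S], Function.Surjective (g.lTensor S) →
      ∀ x : S ⊗[B'] (L ⧸ LinearMap.range g), x = 0 := fun S _ _ hS x => by
    obtain ⟨y, rfl⟩ := LinearMap.lTensor_surjective S (Submodule.mkQ_surjective (LinearMap.range g)) x
    obtain ⟨z, rfl⟩ := hS y
    rw [← LinearMap.lTensor_comp_apply, show (LinearMap.range g).mkQ ∘ₗ g = 0 from LinearMap.ext fun n =>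
      (Submodule.Quotient.mk_eq_zero _).mpr ⟨n, rfl⟩, LinearMap.lTensor_zero, LinearMap.zero_apply]
  intro l
  exact (Submodule.Quotient.mk_eq_zero _).mp
    (eq_zero_of_pair hsq (key B h1) (key A' h2) (Submodule.Quotient.mk l))

theorem finite_of_pair (hsq : IsFibreSquare B' B A' A) [Module.Finite B (B ⊗[B'] L)] [Module.Finite A' (A' ⊗[B'] L)] :
    Module.Finite B' L := by
  classical
  obtain ⟨s, hs⟩ := Glue.Alg.exists_fg_lTensor_surjective (A := B') (M := L) B
  obtain ⟨t, ht⟩ := Glue.Alg.exists_fg_lTensor_surjective (A := B') (M := L) A'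
  have key : ∀ (S : Type u) [CommRing S] [Algebra B' S] (v : Finset L) (hv : v ⊆ s ∪ t),
      Function.Surjective ((Submodule.span B' (v : Set L)).subtype.lTensor S) →
        Function.Surjective ((Submodule.span B' ((s ∪ t : Finset L) : Set L)).subtype.lTensor S) := fun S _ _ v hv hsv x => by
    obtain ⟨y, rfl⟩ := hsv x
    refine ⟨(Submodule.inclusion (Submodule.span_mono (Finset.coe_subset.mpr hv))).lTensor S y, ?_⟩
    rw [← LinearMap.lTensor_comp_apply]
    rfl
  have hsurj := surjective_of_pair hsq _ (key B s Finset.subset_union_left hs) (key A' t Finset.subset_union_right ht)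
  exact ⟨⟨s ∪ t, eq_top_iff.mpr fun m _ => by obtain ⟨⟨y, hy⟩, rfl⟩ := hsurj m; exact hy⟩⟩

theorem exists_glue (hsq : IsFibreSquare B' B A' A) (x : B ⊗[B'] L) (y : A' ⊗[B'] L)
    (hxy : (IsScalarTower.toAlgHom B' B A).toLinearMap.rTensor L x =
      (IsScalarTower.toAlgHom B' A' A).toLinearMap.rTensor L y) :
    ∃ l : L, (1 : B) ⊗ₜ[B'] l = x ∧ (1 : A') ⊗ₜ[B'] l = y := by
  obtain ⟨l₀, rfl⟩ := one_tmul_surjective (surjective hsq) x
  let π : A' →ₗ[B'] A := (IsScalarTower.toAlgHom B' A' A).toLinearMap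
  have h0 : π.rTensor L (y - 1 ⊗ₜ l₀) = 0 := by
    rw [map_sub, sub_eq_zero]
    refine hxy.symm.trans ?_
    rw [LinearMap.rTensor_tmul, LinearMap.rTensor_tmul]
    exact congrArg (· ⊗ₜ[B'] l₀) ((map_one (algebraMap B A)).trans (map_one (algebraMap A' A)).symm)
  obtain ⟨w, hw⟩ := (rTensor_exact L (LinearMap.exact_subtype_ker_map π) hsq.1 _).mp h0
  have key : ∀ w : LinearMap.ker π ⊗[B'] L, ∃ l₁ : L,
      (1 : B) ⊗ₜ[B'] l₁ = 0 ∧ (1 : A') ⊗ₜ[B'] l₁ = (LinearMap.ker π).subtype.rTensor L w := fun w => by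
    induction w using TensorProduct.induction_on with
    | zero => exact ⟨0, tmul_zero _ _, by rw [tmul_zero, map_zero]⟩
    | add a b ha hb =>
      obtain ⟨⟨l, h1, h2⟩, l', h1', h2'⟩ := ha, hb
      exact ⟨l + l', by rw [tmul_add, h1, h1', add_zero], by rw [tmul_add, h2, h2', map_add]⟩
    | tmul i m =>
      obtain ⟨j, hj, hij⟩ := exists_ker hsq (show algebraMap A' A i.1 = 0 from i.2)
      exact ⟨j • m, by rw [tmul_smul, smul_tmul', Algebra.smul_def, mul_one, hj, zero_tmul],
        by rw [tmul_smul, smul_tmul', Algebra.smul_def, mul_one, hij, LinearMap.rTensor_tmul]; rfl⟩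
  obtain ⟨l₁, h1, h2⟩ := key w
  exact ⟨l₀ + l₁, by rw [tmul_add, h1, add_zero], by rw [tmul_add, h2, hw]; abel⟩

/-- A submodule of `ker (B' → B)` stable under `A'` stays injective after tensoring. -/
theorem rTensor_injective_stable (hsq : IsFibreSquare B' B A' A) [Module.Flat A' (A' ⊗[B'] L)] (c : Submodule B' B')
    (hc : ∀ x ∈ c, algebraMap B' B x = 0)
    (hst : ∀ x ∈ c, ∀ a' : A', ∀ k, algebraMap B' B k = 0 → algebraMap B' A' k = a' * algebraMap B' A' x → k ∈ c) :
    Function.Injective ((Algebra.linearMap B' A' ∘ₗ c.subtype).rTensor L) := by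
  let q := Algebra.linearMap B' A' ∘ₗ c.subtype
  have hq : Function.Injective q := fun x y h => Subtype.ext (ext' hsq (by rw [hc _ x.2, hc _ y.2]) h)
  let J' : Submodule A' A' :=
    { (LinearMap.range q).toAddSubmonoid with
      smul_mem' := by
        rintro a' _ ⟨x, rfl⟩
        obtain ⟨k, hk, hk'⟩ := exists_mul hsq (hc _ x.2) a'
        exact ⟨⟨k, hst _ x.2 a' k hk hk'⟩, hk'⟩ }
  let e : c ≃ₗ[B'] J' :=
    LinearEquiv.ofBijective (LinearMap.codRestrict (J'.restrictScalars B') q fun t => ⟨t, rfl⟩)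
      ⟨fun a b hab => hq (congrArg Subtype.val hab), fun ⟨y, t, ht⟩ => ⟨t, Subtype.ext ht⟩⟩
  rw [show Algebra.linearMap B' A' ∘ₗ c.subtype = (J'.subtype.restrictScalars B') ∘ₗ e.toLinearMap from
    LinearMap.ext fun t => rfl, LinearMap.rTensor_comp]
  exact (Glue.Flat.rigid J'.subtype Subtype.val_injective).comp (e.rTensor L).injective

theorem injective_of_flat (hsq : IsFibreSquare B' B A' A) [Module.Flat A' (A' ⊗[B'] L)] {l : L}
    (h1 : (1 : B) ⊗ₜ[B'] l = 0) (h2 : (1 : A') ⊗ₜ[B'] l = 0) : l = 0 := by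
  let c : Submodule B' B' := RingHom.ker (algebraMap B' B)
  have hinj := rTensor_injective_stable (L := L) hsq c (fun x hx => hx) (fun x _ a' k hk _ => hk)
  let μ : c ⊗[B'] L →ₗ[B'] L := (TensorProduct.lid B' L).toLinearMap ∘ₗ c.subtype.rTensor L
  obtain ⟨w, hw⟩ : ∃ w : c ⊗[B'] L, μ w = l := by
    refine Submodule.smul_induction_on ((one_tmul_eq_zero_iff (surjective hsq)).mp h1)
      (fun j hj m _ => ⟨⟨j, hj⟩ ⊗ₜ m, by simp [μ]⟩) (fun a b ha hb => ?_)
    obtain ⟨⟨x, rfl⟩, y, rfl⟩ := ha, hb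
    exact ⟨x + y, map_add μ x y⟩
  have key : ∀ w : c ⊗[B'] L, (Algebra.linearMap B' A' ∘ₗ c.subtype).rTensor L w = (1 : A') ⊗ₜ[B'] μ w := fun w => by
    induction w using TensorProduct.induction_on with
    | zero => simp
    | add a b ha hb => simp only [map_add, tmul_add, ha, hb]
    | tmul j m =>
      rw [LinearMap.rTensor_tmul]
      show algebraMap B' A' j.1 ⊗ₜ[B'] m = 1 ⊗ₜ[B'] μ (j ⊗ₜ m)
      rw [show μ (j ⊗ₜ m) = j.1 • m by simp [μ], tmul_smul, smul_tmul', Algebra.smul_def, mul_one]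
  rw [← hw, hinj (a₁ := w) (a₂ := 0) (by rw [key, hw, h2, map_zero]), map_zero]

/-- Tensoring with `L` preserves an injection with cokernel killed by `ker (B' → B)`. -/
theorem rTensor_injective_of_smul_mem (hsq : IsFibreSquare B' B A' A) [Module.Flat B (B ⊗[B'] L)]
    [Module.Flat A' (A' ⊗[B'] L)] {X Y : Type u} [AddCommGroup X] [AddCommGroup Y] [Module B' X] [Module B' Y]
    (g : X →ₗ[B'] Y) (hinj : Function.Injective g)
    (hn : ∀ j, algebraMap B' B j = 0 → ∀ y, j • y ∈ LinearMap.range g) : Function.Injective (g.rTensor L) := by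
  classical
  let J : Ideal B' := RingHom.ker (algebraMap B' B)
  let S := B' ⧸ J
  let e : S ≃+* B := RingHom.quotientKerEquivOfSurjective (surjective hsq)
  let _ : Algebra B S := e.symm.toRingHom.toAlgebra
  have : IsScalarTower B' B S := IsScalarTower.of_algebraMap_eq fun r => (e.symm_apply_apply (Ideal.Quotient.mk J r)).symm
  have : Module.Flat S (S ⊗[B'] L) :=
    Module.Flat.of_linearEquiv (TensorProduct.AlgebraTensorModule.cancelBaseChange B' B S S L).symm
  let T := Y ⧸ LinearMap.range g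
  have hT : Module.IsTorsionBySet B' T (J : Set B') := by
    rintro t ⟨j, hj⟩
    obtain ⟨y, rfl⟩ := Submodule.Quotient.mk_surjective _ t
    rw [← Submodule.Quotient.mk_smul]
    exact (Submodule.Quotient.mk_eq_zero _).mpr (hn j hj y)
  let _ : Module S T := hT.module
  have : IsScalarTower B' S T := hT.isScalarTower
  let π : (L →₀ B') →ₗ[B'] L := Finsupp.linearCombination B' id
  have hπ : Function.Surjective π := fun q => ⟨Finsupp.single q 1, by simp [π]⟩
  have hiπ := LinearMap.exact_subtype_ker_map π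
  suffices h0 : Function.Injective ((LinearMap.ker π).subtype.rTensor S) from
    Glue.Flat.rTensor_injective_of_cokernel (T := T) (K := ↥(LinearMap.ker π)) (F := L →₀ B') S hinj
      (LinearMap.exact_map_mkQ_range g) (Submodule.mkQ_surjective _) hiπ hπ h0
  let K := LinearMap.ker π
  let _ : AddCommGroup K := Submodule.addCommGroup K
  let eK := TensorProduct.tensorQuotEquivQuotSMul K J
  let eG := TensorProduct.tensorQuotEquivQuotSMul (L →₀ B') J
  rw [injective_iff_map_eq_zero]
  intro z hz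
  obtain ⟨l, hl⟩ := Submodule.Quotient.mk_surjective _ (eK z)
  have hz' : z = l ⊗ₜ (Ideal.Quotient.mk J 1) := eK.injective (by
    rw [← hl, TensorProduct.tensorQuotEquivQuotSMul_tmul_mk, one_smul])
  subst hz'
  rw [LinearMap.rTensor_tmul] at hz
  have hz'' := congrArg eG hz
  rw [TensorProduct.tensorQuotEquivQuotSMul_tmul_mk, one_smul, map_zero, Submodule.Quotient.mk_eq_zero] at hz''
  -- lift to `J ⊗ (L →₀ B')`
  let μF : J ⊗[B'] (L →₀ B') →ₗ[B'] (L →₀ B') :=
    (TensorProduct.lid B' _).toLinearMap ∘ₗ J.subtype.rTensor _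
  obtain ⟨w, hw⟩ : ∃ w, μF w = K.subtype l := by
    refine Submodule.smul_induction_on hz'' (fun j hj m _ => ⟨⟨j, hj⟩ ⊗ₜ m, by simp [μF]⟩) (fun a b ha hb => ?_)
    obtain ⟨⟨x, rfl⟩, y, rfl⟩ := ha, hb
    exact ⟨x + y, map_add μF x y⟩
  have hinjJ := rTensor_injective_stable (L := L) hsq J (fun x hx => hx) (fun x _ a' k hk _ => hk)
  have key : ∀ w, (Algebra.linearMap B' A' ∘ₗ J.subtype).rTensor L (π.lTensor J w) = (1 : A') ⊗ₜ[B'] π (μF w) :=
    fun w => by
    induction w using TensorProduct.induction_on with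
    | zero => simp
    | add a b ha hb => simp only [map_add, tmul_add, ha, hb]
    | tmul j m =>
      rw [LinearMap.lTensor_tmul, LinearMap.rTensor_tmul]
      show algebraMap B' A' j.1 ⊗ₜ[B'] π m = 1 ⊗ₜ[B'] π (μF (j ⊗ₜ m))
      rw [show μF (j ⊗ₜ m) = j.1 • m by simp [μF], map_smul, tmul_smul, smul_tmul', Algebra.smul_def, mul_one]
  have h0 : π.lTensor J w = 0 := hinjJ (by rw [key, hw, show π (K.subtype l) = 0 from l.2, tmul_zero, map_zero])
  obtain ⟨v, hv⟩ := (lTensor_exact J hiπ hπ w).mp h0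
  have key2 : ∀ v : J ⊗[B'] K, μF (K.subtype.lTensor J v) ∈ (J • (⊤ : Submodule B' K)).map K.subtype := fun v => by
    induction v using TensorProduct.induction_on with
    | zero => simp
    | add a b ha hb => rw [map_add, map_add]; exact add_mem ha hb
    | tmul j m => exact ⟨j.1 • m, Submodule.smul_mem_smul j.2 trivial, by simp [μF]⟩
  have hlJ : l ∈ J • (⊤ : Submodule B' K) := by
    obtain ⟨l', hl', hll'⟩ := key2 v
    rw [hv, hw] at hll'
    exact Subtype.ext hll' ▸ hl'
  exact eK.injective (by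
    rw [TensorProduct.tensorQuotEquivQuotSMul_tmul_mk, one_smul, map_zero, Submodule.Quotient.mk_eq_zero]; exact hlJ)

/-- Flatness is detected by a Milnor square. -/
theorem flat_of_pair (hsq : IsFibreSquare B' B A' A) [Module.Flat B (B ⊗[B'] L)] [Module.Flat A' (A' ⊗[B'] L)] :
    Module.Flat B' L := by
  rw [Module.Flat.iff_rTensor_injective']
  intro 𝔞
  rw [injective_iff_map_eq_zero]
  intro z hz
  let p : 𝔞 →ₗ[B'] B := Algebra.linearMap B' B ∘ₗ 𝔞.subtype
  let 𝔟 : Submodule B B :=
    { (LinearMap.range p).toAddSubmonoid with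
      smul_mem' := by
        rintro b _ ⟨x, rfl⟩
        obtain ⟨r, rfl⟩ := surjective hsq b
        exact ⟨r • x, by rw [map_smul, Algebra.smul_def, smul_eq_mul]⟩ }
  let p₀ : 𝔞 →ₗ[B'] 𝔟.restrictScalars B' := LinearMap.codRestrict _ p fun x => ⟨x, rfl⟩
  have hp₀ : Function.Surjective p₀ := fun ⟨y, x, hx⟩ => ⟨x, Subtype.ext hx⟩
  have hi : Function.Injective ((𝔟.restrictScalars B').subtype.rTensor L) :=
    Glue.Flat.rigid (R := B') (M := L) (W := ↥𝔟) (P := B) 𝔟.subtype Subtype.val_injective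
  have h0 : p₀.rTensor L z = 0 := (injective_iff_map_eq_zero _).mp hi _ (by
    rw [← LinearMap.rTensor_comp_apply,
      show (𝔟.restrictScalars B').subtype ∘ₗ p₀ = Algebra.linearMap B' B ∘ₗ 𝔞.subtype from LinearMap.ext fun x => rfl,
      LinearMap.rTensor_comp_apply, hz, map_zero])
  obtain ⟨w, hw⟩ := (rTensor_exact L (LinearMap.exact_subtype_ker_map p₀) hp₀ z).mp h0
  suffices w = 0 by rw [← hw, this, map_zero]
  let N := LinearMap.ker p₀
  have hN : ∀ x : N, algebraMap B' B (x : 𝔞).1 = 0 := fun x => congrArg Subtype.val (LinearMap.mem_ker.mp x.2)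
  let c : Submodule B' B' :=
    { carrier := {k | algebraMap B' B k = 0 ∧ algebraMap B' A' k ∈
        Ideal.span ((fun x : N => algebraMap B' A' (x : 𝔞).1) '' Set.univ)}
      zero_mem' := ⟨map_zero _, by rw [map_zero]; exact zero_mem _⟩
      add_mem' := fun {a b} ha hb => ⟨by rw [map_add, ha.1, hb.1, add_zero], by rw [map_add]; exact add_mem ha.2 hb.2⟩
      smul_mem' := fun r a ha => ⟨by rw [smul_eq_mul, map_mul, ha.1, mul_zero],
        by rw [smul_eq_mul, map_mul]; exact Ideal.mul_mem_left _ _ ha.2⟩ }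
  let g : N →ₗ[B'] c := LinearMap.codRestrict c (𝔞.subtype ∘ₗ N.subtype) fun x =>
    ⟨hN x, Ideal.subset_span ⟨x, trivial, rfl⟩⟩
  have hg : Function.Injective g := fun x y h => Subtype.ext (Subtype.ext (congrArg (fun t : c => t.1) h))
  have hgn : ∀ j, algebraMap B' B j = 0 → ∀ y : c, j • y ∈ LinearMap.range g := fun j hj y => by
    suffices ∀ t ∈ Ideal.span ((fun x : N => algebraMap B' A' (x : 𝔞).1) '' Set.univ), ∀ j, algebraMap B' B j = 0 →
        ∃ x : N, algebraMap B' A' (x : 𝔞).1 = algebraMap B' A' j * t by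
      obtain ⟨x, hx⟩ := this _ y.2.2 j hj
      exact ⟨x, Subtype.ext (ext' hsq (by
        show algebraMap B' B (x : 𝔞).1 = algebraMap B' B (j * y.1)
        rw [hN x, map_mul, hj, zero_mul]) (hx.trans (map_mul _ _ _).symm))⟩
    intro t ht
    refine Submodule.span_induction (p := fun t _ => ∀ j, algebraMap B' B j = 0 →
      ∃ x : N, algebraMap B' A' (x : 𝔞).1 = algebraMap B' A' j * t) ?_ (fun j _ => ⟨0, by simp⟩) ?_ ?_ ht
    · rintro _ ⟨x, -, rfl⟩ j hj
      exact ⟨j • x, by simp⟩
    · intro a b _ _ ha hb j hj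
      obtain ⟨⟨x, hx⟩, y, hy⟩ := ha j hj, hb j hj
      exact ⟨x + y, by rw [Submodule.coe_add, Submodule.coe_add, map_add, hx, hy, mul_add]⟩
    · intro a' t _ ht j hj
      obtain ⟨k, hk, hk'⟩ := exists_mul hsq hj a'
      obtain ⟨x, hx⟩ := ht k hk
      exact ⟨x, by rw [hx, hk', smul_eq_mul]; ring⟩
  have hinj1 := rTensor_injective_of_smul_mem (L := L) hsq g hg hgn
  have hinj2 := rTensor_injective_stable (L := L) hsq c (fun x hx => hx.1)
    (fun x hx a' k hk hk' => ⟨hk, by rw [hk']; exact Ideal.mul_mem_left _ _ hx.2⟩)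
  refine (injective_iff_map_eq_zero _).mp hinj1 _ ((injective_iff_map_eq_zero _).mp hinj2 _ ?_)
  rw [← LinearMap.rTensor_comp_apply,
    show (Algebra.linearMap B' A' ∘ₗ c.subtype) ∘ₗ g = Algebra.linearMap B' A' ∘ₗ 𝔞.subtype ∘ₗ N.subtype from
      LinearMap.ext fun x => rfl,
    LinearMap.rTensor_comp_apply, LinearMap.rTensor_comp_apply, hw, hz, map_zero]

theorem finitePresentation_of_pair (hsq : IsFibreSquare B' B A' A) [Module.Flat B (B ⊗[B'] L)]
    [Module.FinitePresentation B (B ⊗[B'] L)] [Module.Flat A' (A' ⊗[B'] L)]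
    [Module.FinitePresentation A' (A' ⊗[B'] L)] : Module.FinitePresentation B' L := by
  have hfin : Module.Finite B' L := finite_of_pair hsq
  have hflat : Module.Flat B' L := flat_of_pair hsq
  obtain ⟨k, π, hπ⟩ := Module.Finite.exists_fin' B' L
  let K := LinearMap.ker π
  have hiπ := LinearMap.exact_subtype_ker_map π
  have key : ∀ (S : Type u) [CommRing S] [Algebra B' S] [Module.FinitePresentation S (S ⊗[B'] L)],
      Module.Finite S (S ⊗[B'] K) := fun S _ _ _ => by
    let g := K.subtype.baseChange S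
    have hg : Function.Injective g := by
      have : Module.Flat B' (B' ⊗[B'] L) := Module.Flat.of_linearEquiv (TensorProduct.lid B' L)
      exact (LinearMap.lTensor_inj_iff_rTensor_inj S _).mpr
        (Glue.Flat.rTensor_injective_of_algebra (K := ↥K) (F := Fin k → B') (Q := S) B' hiπ hπ
          (Module.Flat.rTensor_preserves_injective_linearMap _ Subtype.val_injective))
    have hex : Function.Exact g (π.baseChange S) := lTensor_exact S hiπ hπ
    have hfg := Module.FinitePresentation.fg_ker (π.baseChange S) (LinearMap.lTensor_surjective S hπ)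
    rw [hex.linearMap_ker_eq] at hfg
    have : Module.Finite S (LinearMap.range g) := Module.Finite.iff_fg.mpr hfg
    exact Module.Finite.equiv (LinearEquiv.ofInjective g hg).symm
  have := key B
  have := key A'
  exact Module.finitePresentation_of_surjective π hπ (Module.Finite.iff_fg.mp (finite_of_pair hsq))

end Groth.Agent.EtAlg.Milnor.Basic
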