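import Groth.Agent.EtAlg.Milnor.Basic
import Mathlib.RingTheory.TensorProduct.Finite

/-! Milnor squares: glued modules. -/

namespace Groth.Agent.EtAlg.Milnor.Glue

open TensorProduct EtMil Basic

universe u

variable {B' B A' A : Type u} [CommRing B'] [CommRing B] [CommRing A'] [CommRing A]
  [Algebra B' B] [Algebra B' A'] [Algebra B A] [Algebra A' A] [Algebra B' A]
  [IsScalarTower B' B A] [IsScalarTower B' A' A]
  {N M' : Type u} [AddCommGroup N] [Module B N] [Module B' N] [IsScalarTower B' B N]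
  [AddCommGroup M'] [Module A' M'] [Module B' M'] [IsScalarTower B' A' M'] (φ : A ⊗[B] N ≃ₗ[A] A ⊗[A'] M')

theorem exists_right (hsq : IsFibreSquare B' B A' A) (n : N) : ∃ m : M', (n, m) ∈ glue B' φ := by
  obtain ⟨m, hm⟩ := one_tmul_surjective hsq.1 (φ ((1 : A) ⊗ₜ[B] n))
  exact ⟨m, hm.symm⟩

theorem zero_right_mem {m : M'} (hm : (1 : A) ⊗ₜ[A'] m = 0) : ((0 : N), m) ∈ glue B' φ := by
  show φ ((1 : A) ⊗ₜ[B] (0 : N)) = (1 : A) ⊗ₜ[A'] m
  rw [tmul_zero, map_zero, hm]

theorem tmul_eq_zero_of_fst_eq_zero {x : glue B' φ} (hx : x.1.1 = 0) : (1 : A) ⊗ₜ[A'] x.1.2 = 0 :=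
  (x.2 : φ _ = _).symm.trans (by rw [hx, tmul_zero, map_zero])

theorem span_snd (hsq : IsFibreSquare B' B A' A) :
    Submodule.span A' (Set.range fun x : glue B' φ => x.1.2) = ⊤ := by
  rw [eq_top_iff]
  intro m _
  have key : ∀ w : A ⊗[B] N, ∃ m' ∈ Submodule.span A' (Set.range fun x : glue B' φ => x.1.2),
      φ w = (1 : A) ⊗ₜ[A'] m' := fun w => by
    induction w using TensorProduct.induction_on with
    | zero => exact ⟨0, zero_mem _, by rw [map_zero, tmul_zero]⟩
    | add a b ha hb =>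
      obtain ⟨⟨a', h1, h2⟩, b', h1', h2'⟩ := ha, hb
      exact ⟨a' + b', add_mem h1 h1', by rw [map_add, h2, h2', tmul_add]⟩
    | tmul a n =>
      obtain ⟨a', rfl⟩ := hsq.1 a
      obtain ⟨m', hm'⟩ := exists_right φ hsq n
      refine ⟨a' • m', Submodule.smul_mem _ _ (Submodule.subset_span ⟨⟨(n, m'), hm'⟩, rfl⟩), ?_⟩
      rw [show algebraMap A' A a' ⊗ₜ[B] n = algebraMap A' A a' • ((1 : A) ⊗ₜ[B] n) by
        rw [smul_tmul', smul_eq_mul, mul_one], map_smul, show φ ((1 : A) ⊗ₜ[B] n) = (1 : A) ⊗ₜ[A'] m' from hm',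
        algebraMap_smul, ← tmul_smul]
  obtain ⟨m', h1, h2⟩ := key (φ.symm ((1 : A) ⊗ₜ[A'] m))
  rw [φ.apply_symm_apply] at h2
  have h0 : ((0 : N), m - m') ∈ glue B' φ := zero_right_mem φ (by rw [tmul_sub, h2, sub_self])
  have := Submodule.add_mem _ (Submodule.subset_span (R := A') (Set.mem_range_self (f := fun x : glue B' φ => x.1.2) ⟨_, h0⟩)) h1
  simpa using this

theorem surjective_fst (hsq : IsFibreSquare B' B A' A) :
    Function.Surjective (LinearMap.liftBaseChange B (glueFst B' φ)) := fun n => by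
  obtain ⟨m, hm⟩ := exists_right φ hsq n
  exact ⟨(1 : B) ⊗ₜ ⟨(n, m), hm⟩, by rw [LinearMap.liftBaseChange_tmul, one_smul]; rfl⟩

theorem injective_fst (hsq : IsFibreSquare B' B A' A) :
    Function.Injective (LinearMap.liftBaseChange B (glueFst B' φ)) := by
  rw [injective_iff_map_eq_zero]
  intro z hz
  obtain ⟨x, rfl⟩ := one_tmul_surjective (surjective hsq) z
  rw [LinearMap.liftBaseChange_tmul, one_smul] at hz
  have hx : x.1.1 = 0 := hz
  have hm := (one_tmul_eq_zero_iff hsq.1).mp (tmul_eq_zero_of_fst_eq_zero φ hx)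
  have key : ∀ m ∈ RingHom.ker (algebraMap A' A) • (⊤ : Submodule A' M'),
      ∃ y : glue B' φ, y ∈ RingHom.ker (algebraMap B' B) • (⊤ : Submodule B' (glue B' φ)) ∧ y.1 = (0, m) := fun m hm => by
    refine Submodule.smul_induction_on hm (fun i hi v _ => ?_) ?_
    · have hv : v ∈ Submodule.span A' (Set.range fun x : glue B' φ => x.1.2) := by rw [span_snd φ hsq]; trivial
      clear hm
      induction hv using Submodule.span_induction generalizing i with
      | mem v hv =>
        obtain ⟨y, rfl⟩ := hv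
        obtain ⟨j, hj, hji⟩ := exists_ker hsq (RingHom.mem_ker.mp hi)
        refine ⟨j • y, Submodule.smul_mem_smul (RingHom.mem_ker.mpr hj) trivial, Prod.ext ?_ ?_⟩
        · show j • y.1.1 = 0
          rw [← IsScalarTower.algebraMap_smul B j, hj, zero_smul]
        · show j • y.1.2 = i • y.1.2
          rw [← IsScalarTower.algebraMap_smul A' j, hji]
      | zero => exact ⟨0, zero_mem _, Prod.ext rfl (smul_zero i).symm⟩
      | add a b _ _ ha hb =>
        obtain ⟨⟨y, h1, h2⟩, y', h1', h2'⟩ := ha i hi trivial, hb i hi trivial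
        exact ⟨y + y', add_mem h1 h1', by rw [Submodule.coe_add, h2, h2', Prod.mk_add_mk, add_zero, smul_add]⟩
      | smul a v _ ih =>
        obtain ⟨y, h1, h2⟩ := ih (i * a) (Ideal.mul_mem_right _ _ hi) trivial
        exact ⟨y, h1, by rw [h2, mul_smul]⟩
    · intro a b ⟨y, h1, h2⟩ ⟨y', h1', h2'⟩
      exact ⟨y + y', add_mem h1 h1', by rw [Submodule.coe_add, h2, h2', Prod.mk_add_mk, add_zero]⟩
  obtain ⟨y, hy, hyx⟩ := key _ hm
  rw [show x = y from Subtype.ext ((Prod.ext hx rfl : x.1 = (0, x.1.2)).trans hyx.symm)]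
  exact (one_tmul_eq_zero_iff (surjective hsq)).mpr hy

theorem surjective_snd (hsq : IsFibreSquare B' B A' A) :
    Function.Surjective (LinearMap.liftBaseChange A' (glueSnd B' φ)) := fun m => by
  have hm : m ∈ Submodule.span A' (Set.range fun x : glue B' φ => x.1.2) := by rw [span_snd φ hsq]; trivial
  refine Submodule.span_induction (p := fun m _ => ∃ z, LinearMap.liftBaseChange A' (glueSnd B' φ) z = m) ?_ ?_ ?_ ?_ hm
  · rintro _ ⟨x, rfl⟩
    exact ⟨(1 : A') ⊗ₜ x, by rw [LinearMap.liftBaseChange_tmul, one_smul]; rfl⟩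
  · exact ⟨0, map_zero _⟩
  · rintro a b - - ⟨x, rfl⟩ ⟨y, rfl⟩
    exact ⟨x + y, map_add _ _ _⟩
  · rintro c a - ⟨x, rfl⟩
    exact ⟨c • x, map_smul _ _ _⟩

theorem injective_snd (hsq : IsFibreSquare B' B A' A) :
    Function.Injective (LinearMap.liftBaseChange A' (glueSnd B' φ)) := by
  rw [injective_iff_map_eq_zero]
  intro z hz
  let e₁ : B ⊗[B'] glue B' φ ≃ₗ[B] N :=
    LinearEquiv.ofBijective (LinearMap.liftBaseChange B (glueFst B' φ)) ⟨injective_fst φ hsq, surjective_fst φ hsq⟩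
  -- `A ⊗ glue → A ⊗ M'` is bijective
  let ψ : glue B' φ →ₗ[B'] A ⊗[A'] M' :=
    { toFun := fun x => (1 : A) ⊗ₜ[A'] x.1.2
      map_add' := fun x y => tmul_add _ _ _
      map_smul' := fun r x => by
        rw [RingHom.id_apply]
        show (1 : A) ⊗ₜ[A'] (r • x.1.2) = r • ((1 : A) ⊗ₜ[A'] x.1.2)
        rw [← IsScalarTower.algebraMap_smul A' r x.1.2, tmul_smul, ← IsScalarTower.algebraMap_smul A' r
          ((1 : A) ⊗ₜ[A'] x.1.2)] }
  let Ψ := ψ.liftBaseChange A
  let θ : A ⊗[B] N ≃ₗ[A] A ⊗[B'] glue B' φ :=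
    (TensorProduct.AlgebraTensorModule.congr (LinearEquiv.refl A A) e₁.symm).trans
      (TensorProduct.AlgebraTensorModule.cancelBaseChange B' B A A (glue B' φ))
  have hΨ : ∀ w, Ψ (θ w) = φ w := fun w => by
    induction w using TensorProduct.induction_on with
    | zero => simp
    | add a b ha hb => simp only [map_add, ha, hb]
    | tmul a n =>
      obtain ⟨m, hm⟩ := exists_right φ hsq n
      have he : e₁.symm n = (1 : B) ⊗ₜ ⟨(n, m), hm⟩ := e₁.injective (by
        rw [LinearEquiv.apply_symm_apply]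
        show n = LinearMap.liftBaseChange B (glueFst B' φ) ((1 : B) ⊗ₜ ⟨(n, m), hm⟩)
        rw [LinearMap.liftBaseChange_tmul, one_smul]; rfl)
      show Ψ (TensorProduct.AlgebraTensorModule.cancelBaseChange B' B A A (glue B' φ) (a ⊗ₜ[B] e₁.symm n)) = _
      rw [he, TensorProduct.AlgebraTensorModule.cancelBaseChange_tmul, one_smul, LinearMap.liftBaseChange_tmul]
      show a • ((1 : A) ⊗ₜ[A'] m) = _
      rw [← show φ ((1 : A) ⊗ₜ[B] n) = (1 : A) ⊗ₜ[A'] m from hm, ← map_smul, smul_tmul', smul_eq_mul, mul_one]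
  let π : A' →ₗ[B'] A := (IsScalarTower.toAlgHom B' A' A).toLinearMap
  have hπ : ∀ z : A' ⊗[B'] glue B' φ,
      Ψ (π.rTensor _ z) = (1 : A) ⊗ₜ[A'] LinearMap.liftBaseChange A' (glueSnd B' φ) z := fun z => by
    induction z using TensorProduct.induction_on with
    | zero => simp
    | add a b ha hb => simp only [map_add, tmul_add, ha, hb]
    | tmul a x =>
      rw [LinearMap.rTensor_tmul, LinearMap.liftBaseChange_tmul, LinearMap.liftBaseChange_tmul]
      show algebraMap A' A a • ((1 : A) ⊗ₜ[A'] x.1.2) = (1 : A) ⊗ₜ[A'] (a • x.1.2)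
      rw [algebraMap_smul, tmul_smul]
  have h0 : π.rTensor (glue B' φ) z = 0 := by
    obtain ⟨w, hw⟩ := θ.surjective (π.rTensor (glue B' φ) z)
    have h := hπ z
    rw [hz, tmul_zero, ← hw, hΨ] at h
    rw [← hw, (LinearEquiv.map_eq_zero_iff φ).mp h, map_zero]
  obtain ⟨v, hv⟩ := (rTensor_exact _ (LinearMap.exact_subtype_ker_map π) hsq.1 _).mp h0
  have key : ∀ v : LinearMap.ker π ⊗[B'] glue B' φ, ∃ x : glue B' φ,
      x.1.1 = 0 ∧ (1 : A') ⊗ₜ[B'] x = (LinearMap.ker π).subtype.rTensor _ v := fun v => by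
    induction v using TensorProduct.induction_on with
    | zero => exact ⟨0, rfl, by rw [tmul_zero, map_zero]⟩
    | add a b ha hb =>
      obtain ⟨⟨l, h1, h2⟩, l', h1', h2'⟩ := ha, hb
      exact ⟨l + l', by rw [Submodule.coe_add, Prod.fst_add, h1, h1', add_zero], by rw [tmul_add, h2, h2', map_add]⟩
    | tmul i x =>
      obtain ⟨j, hj, hij⟩ := exists_ker hsq (show algebraMap A' A i.1 = 0 from i.2)
      refine ⟨j • x, ?_, by rw [tmul_smul, smul_tmul', Algebra.smul_def, mul_one, hij, LinearMap.rTensor_tmul]; rfl⟩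
      show j • x.1.1 = 0
      rw [← IsScalarTower.algebraMap_smul B j, hj, zero_smul]
  obtain ⟨x, hx1, hx2⟩ := key v
  have hzx : z = (1 : A') ⊗ₜ[B'] x := hv.symm.trans hx2.symm
  subst hzx
  rw [LinearMap.liftBaseChange_tmul, one_smul] at hz
  rw [show x = 0 from Subtype.ext (Prod.ext hx1 hz), tmul_zero]

theorem finite_glue (hsq : IsFibreSquare B' B A' A) [Module.Finite B N] [Module.Finite A' M'] :
    Module.Finite B' (glue B' φ) := by
  have : Module.Finite B (B ⊗[B'] glue B' φ) :=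
    Module.Finite.equiv (LinearEquiv.ofBijective _ ⟨injective_fst φ hsq, surjective_fst φ hsq⟩).symm
  have : Module.Finite A' (A' ⊗[B'] glue B' φ) :=
    Module.Finite.equiv (LinearEquiv.ofBijective _ ⟨injective_snd φ hsq, surjective_snd φ hsq⟩).symm
  exact finite_of_pair hsq

theorem flat_glue (hsq : IsFibreSquare B' B A' A) [Module.Flat B N] [Module.Flat A' M'] :
    Module.Flat B' (glue B' φ) := by
  have : Module.Flat B (B ⊗[B'] glue B' φ) :=
    Module.Flat.of_linearEquiv (LinearEquiv.ofBijective _ ⟨injective_fst φ hsq, surjective_fst φ hsq⟩)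
  have : Module.Flat A' (A' ⊗[B'] glue B' φ) :=
    Module.Flat.of_linearEquiv (LinearEquiv.ofBijective _ ⟨injective_snd φ hsq, surjective_snd φ hsq⟩)
  exact flat_of_pair hsq

end Groth.Agent.EtAlg.Milnor.Glue
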