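import Groth.Agent.EtAlg.Milnor.Glue
import Mathlib.RingTheory.IsTensorProduct
import Mathlib.Algebra.Module.FinitePresentation

/-! Milnor squares: the relative situation `B' → D'`. -/

namespace Groth.Agent.EtAlg.Milnor.Rel

open TensorProduct EtMil Basic

universe u

variable {B' B A' A : Type u} [CommRing B'] [CommRing B] [CommRing A'] [CommRing A]
  [Algebra B' B] [Algebra B' A'] [Algebra B A] [Algebra A' A] [Algebra B' A]
  [IsScalarTower B' B A] [IsScalarTower B' A' A]
  {D' D C' : Type u} [CommRing D'] [CommRing D] [CommRing C']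
  [Algebra B' D'] [Algebra B D] [Algebra A' C']
  [Algebra D' D] [Algebra B' D] [IsScalarTower B' B D] [IsScalarTower B' D' D] [Algebra.IsPushout B' B D' D]
  [Algebra D' C'] [Algebra B' C'] [IsScalarTower B' A' C'] [IsScalarTower B' D' C'] [Algebra.IsPushout B' A' D' C']
  {X : Type u} [AddCommGroup X] [Module D' X] [Module B' X] [IsScalarTower B' D' X]

theorem eq_zero_rel (hsq : IsFibreSquare B' B A' A) (h1 : ∀ z : D ⊗[D'] X, z = 0) (h2 : ∀ z : C' ⊗[D'] X, z = 0)
    (x : X) : x = 0 := by
  refine eq_zero_of_pair hsq (fun z => ?_) (fun z => ?_) x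
  · apply (Algebra.IsPushout.cancelBaseChange B' B D' D X).symm.injective
    exact (h1 _).trans (map_zero _).symm
  · apply (Algebra.IsPushout.cancelBaseChange B' A' D' C' X).symm.injective
    exact (h2 _).trans (map_zero _).symm

theorem finite_rel (hsq : IsFibreSquare B' B A' A) [Module.Finite D (D ⊗[D'] X)] [Module.Finite C' (C' ⊗[D'] X)] :
    Module.Finite D' X := by
  classical
  obtain ⟨s, hs⟩ := EtAlg.Glue.Alg.exists_fg_lTensor_surjective (A := D') (M := X) D
  obtain ⟨t, ht⟩ := EtAlg.Glue.Alg.exists_fg_lTensor_surjective (A := D') (M := X) C'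
  let N := Submodule.span D' ((s ∪ t : Finset X) : Set X)
  have key : ∀ (S : Type u) [CommRing S] [Algebra D' S] (v : Finset X) (hv : v ⊆ s ∪ t),
      Function.Surjective ((Submodule.span D' (v : Set X)).subtype.lTensor S) →
        ∀ z : S ⊗[D'] (X ⧸ N), z = 0 := fun S _ _ v hv hsv z => by
    obtain ⟨y, rfl⟩ := LinearMap.lTensor_surjective S (Submodule.mkQ_surjective N) z
    obtain ⟨w, rfl⟩ := hsv y
    rw [← LinearMap.lTensor_comp_apply, show N.mkQ ∘ₗ (Submodule.span D' (v : Set X)).subtype = 0 from
      LinearMap.ext fun n => (Submodule.Quotient.mk_eq_zero _).mpr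
        (Submodule.span_mono (Finset.coe_subset.mpr hv) n.2), LinearMap.lTensor_zero, LinearMap.zero_apply]
  refine ⟨⟨s ∪ t, eq_top_iff.mpr fun m _ => (Submodule.Quotient.mk_eq_zero N).mp ?_⟩⟩
  exact eq_zero_rel (B := B) (A' := A') (D := D) (C' := C') hsq (key D s Finset.subset_union_left hs)
    (key C' t Finset.subset_union_right ht) (Submodule.Quotient.mk m)

theorem finitePresentation_rel (hsq : IsFibreSquare B' B A' A) [Module.Flat B' X] [Module.FinitePresentation D (D ⊗[D'] X)]
    [Module.FinitePresentation C' (C' ⊗[D'] X)] : Module.FinitePresentation D' X := by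
  have hfin : Module.Finite D' X := finite_rel (B := B) (A' := A') (D := D) (C' := C') hsq
  obtain ⟨k, π, hπ⟩ := Module.Finite.exists_fin' D' X
  let K := LinearMap.ker π
  have hiπ := LinearMap.exact_subtype_ker_map π
  have key : ∀ (S S₀ : Type u) [CommRing S] [CommRing S₀] [Algebra D' S] [Algebra B' S₀] [Algebra S₀ S] [Algebra B' S]
      [IsScalarTower B' S₀ S] [IsScalarTower B' D' S] [Algebra.IsPushout B' S₀ D' S]
      [Module.FinitePresentation S (S ⊗[D'] X)], Module.Finite S (S ⊗[D'] K) := fun S S₀ _ _ _ _ _ _ _ _ _ _ => by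
    let g := K.subtype.baseChange S
    have hg : Function.Injective g := by
      have hflat : Module.Flat B' (B' ⊗[B'] X) := Module.Flat.of_linearEquiv (TensorProduct.lid B' X)
      let i : K →ₗ[B'] (Fin k → D') := K.subtype.restrictScalars B'
      let p : (Fin k → D') →ₗ[B'] X := π.restrictScalars B'
      have hip : Function.Exact i p := hiπ
      have h0 : Function.Injective (i.rTensor B') := Module.Flat.rTensor_preserves_injective_linearMap i Subtype.val_injective
      have h1 : Function.Injective (i.lTensor S₀) := (LinearMap.lTensor_inj_iff_rTensor_inj S₀ _).mpr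
        (EtAlg.Glue.Flat.rTensor_injective_of_algebra (K := ↥K) (F := Fin k → D') (M := X) (Q := S₀) B'
          (i := i) (π := p) hip hπ h0)
      have e : ∀ z, i.lTensor S₀ (Algebra.IsPushout.cancelBaseChange B' S₀ D' S K z) =
          Algebra.IsPushout.cancelBaseChange B' S₀ D' S (Fin k → D') (g z) := fun z => by
        obtain ⟨w, rfl⟩ := (Algebra.IsPushout.cancelBaseChange B' S₀ D' S K).symm.surjective z
        rw [LinearEquiv.apply_symm_apply]
        induction w using TensorProduct.induction_on with
        | zero => simp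
        | add a b ha hb => simp only [map_add, ha, hb]
        | tmul s m =>
          rw [Algebra.IsPushout.cancelBaseChange_symm_tmul, LinearMap.lTensor_tmul, LinearMap.baseChange_tmul,
            ← Algebra.IsPushout.cancelBaseChange_symm_tmul B' S₀ D' S (Fin k → D') s (K.subtype m),
            LinearEquiv.apply_symm_apply]
          rfl
      intro a b hab
      exact (Algebra.IsPushout.cancelBaseChange B' S₀ D' S K).injective (h1 (by rw [e, e, hab]))
    have hex : Function.Exact g (π.baseChange S) := lTensor_exact S hiπ hπ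
    have hfg := Module.FinitePresentation.fg_ker (π.baseChange S) (LinearMap.lTensor_surjective S hπ)
    rw [hex.linearMap_ker_eq] at hfg
    have : Module.Finite S (LinearMap.range g) := Module.Finite.iff_fg.mpr hfg
    exact Module.Finite.equiv (LinearEquiv.ofInjective g hg).symm
  have := key D B
  have := key C' A'
  exact Module.finitePresentation_of_surjective π hπ
    (Module.Finite.iff_fg.mp (finite_rel (B := B) (A' := A') (D := D) (C' := C') hsq))

variable {C : Type u} [CommRing C] [Algebra A C]
  [Algebra D' C] [Algebra B' C] [IsScalarTower B' A C] [IsScalarTower B' D' C] [Algebra.IsPushout B' A D' C]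
  [Algebra D C] [IsScalarTower D' D C] [Algebra B C] [IsScalarTower B A C] [IsScalarTower B D C]
  [Algebra C' C] [IsScalarTower D' C' C] [Algebra A' C] [IsScalarTower A' A C] [IsScalarTower A' C' C]
  {N M' : Type u} [AddCommGroup N] [Module D N] [Module D' N] [IsScalarTower D' D N]
  [AddCommGroup M'] [Module C' M'] [Module D' M'] [IsScalarTower D' C' M']
  [Module B N] [IsScalarTower B D N] [Module A' M'] [IsScalarTower A' C' M']
  [Module B' N] [IsScalarTower B' B N] [IsScalarTower B' D' N]
  [Module B' M'] [IsScalarTower B' A' M'] [IsScalarTower B' D' M']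

theorem exists_transfer (hsq : IsFibreSquare B' B A' A) (φ : C ⊗[D] N ≃ₗ[C] C ⊗[C'] M') :
    (Module.Flat B N → Module.Flat A' M' → Module.Flat B' (glue D' φ)) ∧
      Nonempty (D ⊗[D'] glue D' φ ≃ₗ[D] N) ∧ Nonempty (C' ⊗[D'] glue D' φ ≃ₗ[C'] M') := by
  have : IsScalarTower B' D C := IsScalarTower.of_algebraMap_eq fun r => by
    rw [IsScalarTower.algebraMap_apply B' D' D, ← IsScalarTower.algebraMap_apply D' D C,
      ← IsScalarTower.algebraMap_apply B' D' C]
  have : IsScalarTower B' C' C := IsScalarTower.of_algebraMap_eq fun r => by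
    rw [IsScalarTower.algebraMap_apply B' D' C', ← IsScalarTower.algebraMap_apply D' C' C,
      ← IsScalarTower.algebraMap_apply B' D' C]
  have : Algebra.IsPushout B A D C := (Algebra.IsPushout.comp_iff B' B D' (S' := D) (T := A) (T' := C)).mp inferInstance
  have : Algebra.IsPushout A' A C' C := (Algebra.IsPushout.comp_iff B' A' D' (S' := C') (T := A) (T' := C)).mp inferInstance
  let φB : A ⊗[B] N ≃ₗ[A] A ⊗[A'] M' :=
    ((Algebra.IsPushout.cancelBaseChange B A D C N).symm.trans (φ.restrictScalars A)).trans
      (Algebra.IsPushout.cancelBaseChange A' A C' C M')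
  have hφB : ∀ (n : N) (m : M'), φB ((1 : A) ⊗ₜ[B] n) = (1 : A) ⊗ₜ[A'] m ↔ φ ((1 : C) ⊗ₜ[D] n) = (1 : C) ⊗ₜ[C'] m := by
    intro n m
    show Algebra.IsPushout.cancelBaseChange A' A C' C M' (φ ((Algebra.IsPushout.cancelBaseChange B A D C N).symm (1 ⊗ₜ n))) = _ ↔ _
    rw [Algebra.IsPushout.cancelBaseChange_symm_tmul, map_one, ← LinearEquiv.eq_symm_apply,
      Algebra.IsPushout.cancelBaseChange_symm_tmul, map_one]
  let g₀ : glue D' φ →ₗ[B'] glue B' φB :=
    LinearMap.codRestrict _ ((glue D' φ).subtype.restrictScalars B') fun x => (hφB x.1.1 x.1.2).mpr x.2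
  have hg₀ : Function.Bijective g₀ := ⟨fun x y h => Subtype.ext (congrArg (fun z => z.1) h),
    fun y => ⟨⟨y.1, (hφB y.1.1 y.1.2).mp y.2⟩, rfl⟩⟩
  let g := LinearEquiv.ofBijective g₀ hg₀
  refine ⟨fun h1 h2 => ?_, ?_, ?_⟩
  · have := Glue.flat_glue φB hsq
    exact Module.Flat.of_linearEquiv g
  · let f := LinearMap.liftBaseChange D (glueFst D' φ)
    have hf : ∀ z, f ((Algebra.IsPushout.cancelBaseChange B' B D' D (glue D' φ)).symm z) =
        LinearMap.liftBaseChange B (glueFst B' φB) (g.toLinearMap.baseChange B z) := fun z => by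
      induction z using TensorProduct.induction_on with
      | zero => simp
      | add a b ha hb => simp only [map_add, ha, hb]
      | tmul b x =>
        rw [Algebra.IsPushout.cancelBaseChange_symm_tmul, LinearMap.baseChange_tmul, LinearMap.liftBaseChange_tmul,
          LinearMap.liftBaseChange_tmul, algebraMap_smul]
        rfl
    have hbij : Function.Bijective f := by
      have h : Function.Bijective (f ∘ (Algebra.IsPushout.cancelBaseChange B' B D' D (glue D' φ)).symm) := by
        rw [show f ∘ (Algebra.IsPushout.cancelBaseChange B' B D' D (glue D' φ)).symm =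
          LinearMap.liftBaseChange B (glueFst B' φB) ∘ g.baseChange B' B (glue D' φ) _ from funext hf]
        exact ⟨(Glue.injective_fst φB hsq).comp (g.baseChange B' B (glue D' φ) _).injective,
          (Glue.surjective_fst φB hsq).comp (g.baseChange B' B (glue D' φ) _).surjective⟩
      exact (Function.Bijective.of_comp_iff f (LinearEquiv.bijective _)).mp h
    exact ⟨LinearEquiv.ofBijective f hbij⟩
  · let f := LinearMap.liftBaseChange C' (glueSnd D' φ)
    have hf : ∀ z, f ((Algebra.IsPushout.cancelBaseChange B' A' D' C' (glue D' φ)).symm z) =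
        LinearMap.liftBaseChange A' (glueSnd B' φB) (g.toLinearMap.baseChange A' z) := fun z => by
      induction z using TensorProduct.induction_on with
      | zero => simp
      | add a b ha hb => simp only [map_add, ha, hb]
      | tmul b x =>
        rw [Algebra.IsPushout.cancelBaseChange_symm_tmul, LinearMap.baseChange_tmul, LinearMap.liftBaseChange_tmul,
          LinearMap.liftBaseChange_tmul, algebraMap_smul]
        rfl
    have hbij : Function.Bijective f := by
      have h : Function.Bijective (f ∘ (Algebra.IsPushout.cancelBaseChange B' A' D' C' (glue D' φ)).symm) := by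
        rw [show f ∘ (Algebra.IsPushout.cancelBaseChange B' A' D' C' (glue D' φ)).symm =
          LinearMap.liftBaseChange A' (glueSnd B' φB) ∘ g.baseChange B' A' (glue D' φ) _ from funext hf]
        exact ⟨(Glue.injective_snd φB hsq).comp (g.baseChange B' A' (glue D' φ) _).injective,
          (Glue.surjective_snd φB hsq).comp (g.baseChange B' A' (glue D' φ) _).surjective⟩
      exact (Function.Bijective.of_comp_iff f (LinearEquiv.bijective _)).mp h
    exact ⟨LinearEquiv.ofBijective f hbij⟩

end Groth.Agent.EtAlg.Milnor.Rel
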